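import Cfsg.Agent.H528.PDAlt.Small
import Cfsg.Agent.H160.PD.Api
import Cfsg.Agent.S2119
import Cfsg.Agent.H570.AltBad
import Cfsg.Agent.H365.NseAlt

/-!
# S4246: the row for the alternating groups (helper528)

`row_alt` : the alternating groups of degree at least five.
-/

set_option autoImplicit false

namespace Cfsg.Agent.H528.PDAlt

open Equiv Equiv.Perm Subgroup Nat Cfsg.Agent.H160.PD

/-! ### the degrees different from six -/

section transfer

variable {n : ℕ}

theorem two_mul_card (hn : 2 ≤ n) : 2 * Nat.card (alternatingGroup (Fin n)) = n ! := by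
  have : Nontrivial (Fin n) := Fin.nontrivial_iff_two_le.2 hn
  have h := two_mul_nat_card_alternatingGroup (α := Fin n)
  rwa [Nat.card_perm, Nat.card_eq_fintype_card (α := Fin n), Fintype.card_fin] at h

theorem fact_alt (hn : 2 ≤ n) {r : ℕ} (hr2 : r ≠ 2) :
    (n !).factorization r = (Nat.card (alternatingGroup (Fin n))).factorization r := by
  rw [← two_mul_card hn, Nat.factorization_mul two_ne_zero Nat.card_pos.ne', Finsupp.add_apply,
    Nat.Prime.factorization Nat.prime_two, Finsupp.single_apply, if_neg hr2.symm, zero_add]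

theorem fact_alt_two (hn : 2 ≤ n) :
    (n !).factorization 2 = (Nat.card (alternatingGroup (Fin n))).factorization 2 + 1 := by
  rw [← two_mul_card hn, Nat.factorization_mul two_ne_zero Nat.card_pos.ne', Finsupp.add_apply,
    Nat.Prime.factorization_self Nat.prime_two, add_comm]

/-- the automorphisms as permutations -/
noncomputable def eqv (hn : 5 ≤ n) (h6 : n ≠ 6) : Perm (Fin n) ≃* MulAut (alternatingGroup (Fin n)) :=
  MulEquiv.ofBijective _ (S2119.result n (by omega) h6)

theorem eqv_coe (hn : 5 ≤ n) (h6 : n ≠ 6) (s : alternatingGroup (Fin n)) :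
    eqv hn h6 (s : Perm (Fin n)) = MulAut.conj s := by
  refine MulEquiv.ext fun x => Subtype.ext ?_
  change ((MulAut.conjNormal (s : Perm (Fin n)) : MulAut (alternatingGroup (Fin n))) x : Perm (Fin n)) = _
  rw [MulAut.conjNormal_apply, MulAut.conj_apply]
  rfl

theorem card_comap (hn : 5 ≤ n) (h6 : n ≠ 6) (H : Subgroup (MulAut (alternatingGroup (Fin n)))) :
    Nat.card (H.comap (eqv hn h6).toMonoidHom) = Nat.card H := by
  have h1 := Subgroup.map_comap_eq_self_of_surjective (f := (eqv hn h6).toMonoidHom) (eqv hn h6).surjective H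
  conv_rhs => rw [← h1]
  exact Nat.card_congr ((H.comap (eqv hn h6).toMonoidHom).equivMapOfInjective _ (eqv hn h6).injective).toEquiv

theorem card_tr' (hn : 5 ≤ n) (h6 : n ≠ 6) (H : Subgroup (MulAut (alternatingGroup (Fin n)))) :
    Nat.card (tr H) = Nat.card ↥(H.comap (eqv hn h6).toMonoidHom ⊓ alternatingGroup (Fin n)) := by
  have h1 : (tr H).map (alternatingGroup (Fin n)).subtype =
      H.comap (eqv hn h6).toMonoidHom ⊓ alternatingGroup (Fin n) := by
    ext x
    rw [Subgroup.mem_map, Subgroup.mem_inf, Subgroup.mem_comap]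
    constructor
    · rintro ⟨s, hs, rfl⟩
      refine ⟨?_, s.2⟩
      change eqv hn h6 (s : Perm (Fin n)) ∈ H
      rw [eqv_coe]
      exact hs
    · rintro ⟨h1, h2⟩
      refine ⟨⟨x, h2⟩, ?_, rfl⟩
      rw [mem_tr, ← eqv_coe hn h6]
      exact h1
  rw [← h1]
  exact Nat.card_congr ((tr H).equivMapOfInjective _ (Subgroup.subtype_injective _)).toEquiv

theorem row_ne_six (hn : 5 ≤ n) (h6 : n ≠ 6) : Row (alternatingGroup (Fin n)) := by
  intro π L K L' K' h
  have hc := card_comap hn h6
  have ht := card_tr' hn h6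
  have hle : ∀ (H : Subgroup (MulAut (alternatingGroup (Fin n)))) (r : ℕ),
      (Nat.card (tr H)).factorization r ≤ (Nat.card H).factorization r := by
    intro H r
    rw [ht, ← hc H]
    exact inf_le_card _ r
  have hne : ∀ H : Subgroup (MulAut (alternatingGroup (Fin n))), H ≠ ⊥ → H.comap (eqv hn h6).toMonoidHom ≠ ⊥ := by
    intro H hH h0
    apply hH
    rw [← Subgroup.card_eq_one] at h0 ⊢
    rwa [hc] at h0
  have hcm : ∀ A B : Subgroup (MulAut (alternatingGroup (Fin n))), (∀ a ∈ A, ∀ b ∈ B, a * b = b * a) →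
      ∀ a ∈ A.comap (eqv hn h6).toMonoidHom, ∀ b ∈ B.comap (eqv hn h6).toMonoidHom, a * b = b * a := by
    intro A B hAB a ha b hb
    apply (eqv hn h6).injective
    rw [map_mul, map_mul]
    exact hAB _ ha _ hb
  have hpc : PC n π (L.comap (eqv hn h6).toMonoidHom) (K.comap (eqv hn h6).toMonoidHom)
      (L'.comap (eqv hn h6).toMonoidHom) (K'.comap (eqv hn h6).toMonoidHom) := by
    refine ⟨h.two, ?_, ?_, ?_, ?_, hcm _ _ h.comm, hcm _ _ h.comm', hne _ h.ne, hne _ h.ne', ?_, ?_, ?_, ?_⟩
    · rw [hc]; exact h.piL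
    · rw [hc]; exact h.piL'
    · rw [hc]; exact h.piK
    · rw [hc]; exact h.piK'
    · intro r hr hp
      have hr2 : r ≠ 2 := fun h0 => h.two (h0 ▸ hp)
      rw [hc, hc, fact_alt (by omega) hr2]
      exact (h.numL r hr hp).trans (Nat.add_le_add_left (hle _ _) _)
    · intro r hr hr2 hp
      rw [hc, hc, fact_alt (by omega) hr2]
      exact (h.numK r hr hp).trans (Nat.add_le_add_left (hle _ _) _)
    · rw [hc, ← ht, fact_alt_two (by omega)]
      exact Nat.add_le_add_right (h.numK 2 Nat.prime_two h.two) 1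
    · rw [hc, ← ht, fact_alt_two (by omega)]
      exact Nat.add_le_add_right (h.numK' 2 Nat.prime_two h.two) 1
  exact hpc.false hn h6

end transfer

/-! ### degree six -/

section six

theorem center6 : center (alternatingGroup (Fin 6)) = ⊥ :=
  alternatingGroup.center_eq_bot (by rw [Nat.card_eq_fintype_card, Fintype.card_fin]; norm_num)

theorem card6 : Nat.card (alternatingGroup (Fin 6)) = 360 := by
  have h := two_mul_card (n := 6) (by norm_num)
  have h1 : (6 : ℕ)! = 720 := rfl
  omega

open Cfsg.Agent.LFourA.AltPsiAut in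
theorem out_le : out (alternatingGroup (Fin 6)) ≤ 4 := by
  set J : Subgroup (MulAut (alternatingGroup (Fin 6))) :=
    (MulAut.conjNormal : Perm (Fin 6) →* MulAut (alternatingGroup (Fin 6))).range with hJ
  have h1 : NE ≤ J := by
    intro α hα
    obtain ⟨s, hs⟩ := LFourA.AltPsiAut.exists_perm hα
    refine ⟨s, MulEquiv.ext fun x => Subtype.ext ?_⟩
    rw [MulAut.conjNormal_apply, hs]
  have h2 : NE.index ≤ 2 := by
    by_cases h : ∀ α, α ∈ NE
    · have : NE = ⊤ := by rw [eq_top_iff]; exact fun α _ => h α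
      rw [this, Subgroup.index_top]
      norm_num
    · push Not at h
      obtain ⟨a, ha⟩ := h
      have : NE.index = 2 := by
        rw [Subgroup.index_eq_two_iff']
        refine ⟨a, fun b => ?_⟩
        by_cases hb : b ∈ NE
        · refine Or.inr ⟨hb, fun h3 => ha ?_⟩
          have := NE.mul_mem h3 (NE.inv_mem hb)
          rwa [mul_inv_cancel_right] at this
        · refine Or.inl ⟨?_, hb⟩
          have := inv_mul_mem (α := a⁻¹) (β := b) (fun h3 => ha (by have := NE.inv_mem h3; rwa [inv_inv] at this)) hb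
          rwa [inv_inv] at this
      exact this.le
  have h3 : J.index ≤ 2 := (Nat.le_of_dvd (Nat.pos_of_ne_zero Subgroup.index_ne_zero_of_finite)
    (Subgroup.index_dvd_of_le h1)).trans h2
  have h4 : Nat.card J ≤ 720 := by
    have h5 := Nat.le_of_dvd Nat.card_pos (Subgroup.card_range_dvd
      (MulAut.conjNormal : Perm (Fin 6) →* MulAut (alternatingGroup (Fin 6))))
    rw [Nat.card_perm, Nat.card_eq_fintype_card (α := Fin 6), Fintype.card_fin] at h5
    exact h5
  have h6 : Nat.card (MulAut.conj : alternatingGroup (Fin 6) →* MulAut (alternatingGroup (Fin 6))).range = 360 := by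
    rw [← card6]
    exact (Nat.card_congr (MonoidHom.ofInjective (conj_injective center6)).toEquiv).symm
  have h7 := Subgroup.card_mul_index J
  have h8 := Subgroup.card_mul_index (MulAut.conj : alternatingGroup (Fin 6) →* MulAut (alternatingGroup (Fin 6))).range
  rw [h6, ← h7] at h8
  have h9 : Nat.card J * J.index ≤ 720 * 2 := Nat.mul_le_mul h4 h3
  unfold out
  omega

/-- centralisers of elements of odd prime order have odd order -/
theorem cent6 {x : alternatingGroup (Fin 6)} (hx : (orderOf x).Prime) (h2 : orderOf x ≠ 2) :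
    ¬ 2 ∣ Nat.card (centralizer ({x} : Set (alternatingGroup (Fin 6)))) := by
  intro hd
  obtain ⟨z, hz, hzo⟩ := exists_order Nat.prime_two hd
  rw [mem_centralizer_singleton_iff] at hz
  have hco : (orderOf x).Coprime (orderOf z) := by
    rw [hzo]
    exact (Nat.coprime_primes hx Nat.prime_two).2 h2
  have h1 := (show Commute x z from hz.symm).orderOf_mul_eq_mul_orderOf_of_coprime hco
  rw [hzo] at h1
  have h3 := Cfsg.Agent.H365.NseAlt.or6 (x * z)
  have h4 := hx.two_le
  rw [h1] at h3
  simp only [List.mem_cons, List.not_mem_nil, or_false] at h3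
  omega

/-- centralisers of elements of order five -/
theorem cent6_five {x : alternatingGroup (Fin 6)} (hx : orderOf x = 5) :
    Nat.card (centralizer ({x} : Set (alternatingGroup (Fin 6)))) ∣ 5 := by
  have hx' : orderOf (x : Perm (Fin 6)) = 5 := by rw [Subgroup.orderOf_coe, hx]
  obtain ⟨k, hk1, hk2, hk3⟩ := card_cent Nat.prime_five hx'
  have hk : k = 1 := by
    have := (x : Perm (Fin 6)).support.card_le_univ
    rw [Fintype.card_fin] at this
    omega
  subst hk
  rw [Fintype.card_fin] at hk3
  have h1 : (6 - 1 * 5)! * 5 ^ 1 * 1 ! = 5 := rfl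
  rw [h1] at hk3
  have h2 : (centralizer ({x} : Set (alternatingGroup (Fin 6)))).map (alternatingGroup (Fin 6)).subtype ≤
      centralizer ({(x : Perm (Fin 6))} : Set (Perm (Fin 6))) := by
    rintro _ ⟨y, hy, rfl⟩
    rw [mem_centralizer_singleton_iff]
    exact congrArg Subtype.val (mem_centralizer_singleton_iff.1 hy)
  have h3 := card_dvd_of_le h2
  rw [hk3] at h3
  rwa [Nat.card_congr ((centralizer ({x} : Set (alternatingGroup (Fin 6)))).equivMapOfInjective _
    (Subgroup.subtype_injective (alternatingGroup (Fin 6)))).toEquiv]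

theorem out_two : (out (alternatingGroup (Fin 6))).factorization 2 ≤ 2 := by
  have h1 := Nat.ordProj_dvd (out (alternatingGroup (Fin 6))) 2
  have h2 := (Nat.le_of_dvd (Nat.pos_of_ne_zero out_ne_zero) h1).trans out_le
  by_contra h3
  have h4 := Nat.pow_le_pow_right (n := 2) two_pos (show 3 ≤ (out (alternatingGroup (Fin 6))).factorization 2 by omega)
  omega

theorem out_five : (out (alternatingGroup (Fin 6))).factorization 5 = 0 := by
  apply Nat.factorization_eq_zero_of_not_dvd
  intro h
  have h1 := (Nat.le_of_dvd (Nat.pos_of_ne_zero out_ne_zero) h).trans out_le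
  omega

theorem v_five : v 5 (alternatingGroup (Fin 6)) = 1 := by
  unfold v
  rw [← fact_alt (by norm_num) (by norm_num), v5f (by norm_num)]

theorem v_two : v 2 (alternatingGroup (Fin 6)) = 3 := by
  have h := fact_alt_two (n := 6) (by norm_num)
  rw [v2f (by norm_num)] at h
  unfold v
  omega

/-- an inner element of `L` -/
theorem exists_inner {π : Set ℕ} {L K L' K' : Subgroup (MulAut (alternatingGroup (Fin 6)))} (h : Cfg π L K L' K') :
    ∃ y ∈ tr L, (orderOf y).Prime ∧ orderOf y ≠ 2 := by
  obtain ⟨b, hb, t, ht, -, ht2, hbo⟩ := h.exists_prime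
  obtain ⟨y, rfl⟩ := Cfsg.Agent.H570.AltBad.conj_of_odd (n := 6) (by norm_num) (ht.odd_of_ne_two ht2)
    (by rw [← hbo]; exact pow_orderOf_eq_one b)
  have h1 : orderOf y = t := by rw [← hbo, orderOf_injective _ (conj_injective center6)]
  exact ⟨y, hb, by rwa [h1], by rwa [h1]⟩

theorem caseL {π : Set ℕ} {L K L' K' : Subgroup (MulAut (alternatingGroup (Fin 6)))} (h : Cfg π L K L' K')
    (hπ : 5 ∈ π) {x : alternatingGroup (Fin 6)} (hx : x ∈ tr L) (hxo : orderOf x = 5) : False := by
  have h1 := (card_dvd_of_le (h.trK_le_centralizer center6 hx)).trans (cent6_five hxo)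
  have h2 : Nat.card (tr K) = 1 := by
    rcases (Nat.dvd_prime Nat.prime_five).1 h1 with h3 | h3
    · exact h3
    · exact absurd hπ (h.piK 5 Nat.prime_five (by
        have := card_tr_dvd center6 K
        rwa [h3] at this))
  have h3 := v_le center6 K 2
  have h4 := out_two
  have h5 := h.numK 2 Nat.prime_two h.two
  obtain ⟨y, hy, hy1, hy2⟩ := exists_inner h.symm
  have h6 : v 2 (tr K') = 0 := by
    apply v_eq_zero
    intro h7
    exact cent6 hy1 hy2 (h7.trans (card_dvd_of_le (h.symm.trK_le_centralizer center6 hy)))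
  have h7 := v_two
  unfold v at h3 h6 h7
  rw [h2, Nat.factorization_one, Finsupp.zero_apply] at h3
  omega

theorem caseK {π : Set ℕ} {L K L' K' : Subgroup (MulAut (alternatingGroup (Fin 6)))} (h : Cfg π L K L' K')
    (hπ : 5 ∉ π) {x : alternatingGroup (Fin 6)} (hx : x ∈ tr K) (hxo : orderOf x = 5) : False := by
  have h1 := (card_dvd_of_le (h.trL_le_centralizer center6 hx)).trans (cent6_five hxo)
  have h2 : Nat.card (tr L) = 1 := by
    rcases (Nat.dvd_prime Nat.prime_five).1 h1 with h3 | h3
    · exact h3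
    · exact absurd (h.piL 5 Nat.prime_five (by
        have := card_tr_dvd center6 L
        rwa [h3] at this)) hπ
  obtain ⟨y, hy, hy1, hy2⟩ := exists_inner h
  have h3 := order_dvd hy
  rw [h2, Nat.dvd_one] at h3
  rw [h3] at hy1
  exact Nat.not_prime_one hy1

theorem row_six : Row (alternatingGroup (Fin 6)) := by
  intro π L K L' K' h
  have h1 : (out (alternatingGroup (Fin 6))).factorization 5 < v 5 (alternatingGroup (Fin 6)) := by
    rw [out_five, v_five]
    exact one_pos
  by_cases hπ : 5 ∈ π
  · rcases h.mem_L_or center6 Nat.prime_five hπ h1 with ⟨x, hx, hxo⟩ | ⟨x, hx, hxo⟩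
    · exact caseL h hπ hx hxo
    · exact caseL h.symm hπ hx hxo
  · rcases h.mem_K_or center6 Nat.prime_five hπ h1 with ⟨x, hx, hxo⟩ | ⟨x, hx, hxo⟩
    · exact caseK h hπ hx hxo
    · exact caseK h.symm hπ hx hxo

end six

/-- **S4246: the row for the alternating groups.** -/
theorem row_alt (K : Type*) [Group K] (h : Cfsg.IsAlternating K) : Cfsg.Agent.H160.PD.Row K := by
  obtain ⟨n, hn, ⟨e⟩⟩ := h
  by_cases h6 : n = 6
  · subst h6
    exact Row.congr e row_six
  · exact Row.congr e (row_ne_six hn h6)

end Cfsg.Agent.H528.PDAlt
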