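import Mathlib
import Cfsg.Agent.S0713
import Cfsg.Agent.SporadicA.TwoPointStab

/-!
# Permutation groups with a cycle of prime length more than half of the degree (helper528)
-/

set_option autoImplicit false

namespace Cfsg.Agent.H528.PDAlt

open Equiv Equiv.Perm MulAction Subgroup SubMulAction

section trans

variable {Δ : Type*} [Fintype Δ] [DecidableEq Δ]

theorem isCycle_of {c : Perm Δ} {r : ℕ} (hr : r.Prime) (hbig : Fintype.card Δ < 2 * r) (ho : orderOf c = r) :
    c.IsCycle ∧ c.support.card = r := by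
  have h1 : c.IsCycle := isCycle_of_prime_order' (ho ▸ hr) (by rw [ho]; exact hbig)
  exact ⟨h1, by rw [← h1.orderOf, ho]⟩

theorem prim_of_big (Y : Subgroup (Perm Δ)) [IsPretransitive Y Δ] {r : ℕ} (hr : r.Prime)
    (hbig : Fintype.card Δ < 2 * r) {c : Perm Δ} (hc : c ∈ Y) (ho : orderOf c = r) : IsPreprimitive Y Δ := by
  obtain ⟨hcy, hcs⟩ := isCycle_of hr hbig ho
  have h1 := isPretransitive_of_isCycle_mem hcy hc
  have hcard : Nat.card (ofFixingSubgroup Y ((c.support : Set Δ)ᶜ)) = r := by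
    have e : ((ofFixingSubgroup Y ((c.support : Set Δ)ᶜ) : SubMulAction _ Δ) : Set Δ) = (c.support : Set Δ) := by
      ext x
      rw [SetLike.mem_coe, SubMulAction.mem_ofFixingSubgroup_iff, Set.mem_compl_iff, not_not]
    change Nat.card ((ofFixingSubgroup Y ((c.support : Set Δ)ᶜ) : SubMulAction _ Δ) : Set Δ) = r
    rw [e, Nat.card_coe_set_eq, Set.ncard_coe_finset, hcs]
  have h2 : IsPreprimitive (fixingSubgroup Y ((c.support : Set Δ)ᶜ)) (ofFixingSubgroup Y ((c.support : Set Δ)ᶜ)) := by
    apply IsPreprimitive.of_prime_card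
    rw [hcard]
    exact hr
  let f : (ofFixingSubgroup Y ((c.support : Set Δ)ᶜ)) →ₑ[(fixingSubgroup Y ((c.support : Set Δ)ᶜ)).subtype] Δ :=
    { toFun := fun x => x.1
      map_smul' := fun g x => rfl }
  apply IsPreprimitive.of_card_lt (f := f)
  have h3 : (Set.range f).ncard = r := by
    have hinj : Function.Injective f := Subtype.val_injective
    rw [← hcard, ← Set.image_univ, Set.ncard_image_of_injective _ hinj, Set.ncard_univ]
  rw [h3, Nat.card_eq_fintype_card]
  exact hbig

theorem two_trans_of_big (Y : Subgroup (Perm Δ)) [IsPretransitive Y Δ] {r : ℕ} (hr : r.Prime)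
    (hbig : Fintype.card Δ < 2 * r) (hlt : r < Fintype.card Δ) {c : Perm Δ} (hc : c ∈ Y) (ho : orderOf c = r) :
    IsMultiplyPretransitive Y Δ 2 := by
  obtain ⟨hcy, hcs⟩ := isCycle_of hr hbig ho
  have hp := prim_of_big Y hr hbig hc ho
  have h1 := isPretransitive_of_isCycle_mem hcy hc
  have h2 : ((c.support : Set Δ)ᶜ).ncard + r = Fintype.card Δ := by
    rw [← hcs, ← Set.ncard_coe_finset, add_comm, Set.ncard_add_ncard_compl, Nat.card_eq_fintype_card]
  have h3 := hr.two_le
  exact hp.is_two_pretransitive (s := ((c.support : Set Δ)ᶜ)) (n := Fintype.card Δ - r - 1) (by omega)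
    (by rw [Nat.card_eq_fintype_card]; omega) h1

theorem dvd_of_big (Y : Subgroup (Perm Δ)) [IsPretransitive Y Δ] {r : ℕ} (hr : r.Prime)
    (hbig : Fintype.card Δ < 2 * r) (hlt : r < Fintype.card Δ) {c : Perm Δ} (hc : c ∈ Y) (ho : orderOf c = r) :
    Fintype.card Δ * (Fintype.card Δ - 1) ∣ Nat.card Y := by
  have h1 := two_trans_of_big Y hr hbig hlt hc ho
  have h2 := hr.two_le
  have h3 : 1 < Fintype.card Δ := by omega
  obtain ⟨p, q, hpq⟩ := Fintype.one_lt_card_iff.1 h3
  have h4 := Cfsg.Agent.SporadicA.TwoPointStab.card_two_stab_mul h1 hpq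
  rw [Nat.card_eq_fintype_card (α := Δ)] at h4
  obtain ⟨m, hm⟩ : ∃ m, Fintype.card Δ = m + 2 := ⟨Fintype.card Δ - 2, by omega⟩
  rw [hm, Nat.add_sub_cancel, show (m + 2).factorial = ((m + 2) * (m + 1)) * m.factorial from by
    rw [Nat.factorial_succ, Nat.factorial_succ, mul_assoc], ← mul_assoc] at h4
  have h5 := Nat.eq_of_mul_eq_mul_right (Nat.factorial_pos m) h4
  rw [hm, ← h5]
  exact Dvd.intro_left _ rfl

theorem factorial_dvd_of_big (Y : Subgroup (Perm Δ)) [IsPretransitive Y Δ] {r : ℕ} (hr : r.Prime)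
    (hbig : Fintype.card Δ < 2 * r) (hlt : r + 3 ≤ Fintype.card Δ) {c : Perm Δ} (hc : c ∈ Y) (ho : orderOf c = r) :
    (Fintype.card Δ).factorial ∣ 2 * Nat.card Y := by
  obtain ⟨hcy, hcs⟩ := isCycle_of hr hbig ho
  have hp := prim_of_big Y hr hbig hc ho
  have h2 := hr.two_le
  have h1 := Cfsg.Agent.S0713.result Y hp hr (by omega) hlt hcy hcs hc
  have : Nontrivial Δ := Fintype.one_lt_card_iff_nontrivial.1 (by omega)
  have h3 := two_mul_nat_card_alternatingGroup (α := Δ)
  rw [Nat.card_perm, Nat.card_eq_fintype_card (α := Δ)] at h3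
  rw [← h3]
  exact Nat.mul_dvd_mul_left 2 (card_dvd_of_le h1)

end trans

section orbit

variable {α : Type*}

/-- the group induced on an orbit -/
def ind (X : Subgroup (Perm α)) (a : α) : Subgroup (Perm (orbit X a)) := (toPermHom X (orbit X a)).range

theorem ind_trans (X : Subgroup (Perm α)) (a : α) : IsPretransitive (ind X a) (orbit X a) := by
  refine ⟨fun x y => ?_⟩
  obtain ⟨g, hg⟩ := exists_smul_eq X x y
  exact ⟨⟨toPermHom X (orbit X a) g, g, rfl⟩, hg⟩

theorem card_ind_dvd (X : Subgroup (Perm α)) (a : α) : Nat.card (ind X a) ∣ Nat.card X :=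
  Subgroup.card_range_dvd _

theorem exists_ind (X : Subgroup (Perm α)) {a : α} {c : Perm α} (hc : c ∈ X) {r : ℕ} (hr : r.Prime)
    (ho : orderOf c = r) (ha : c a ≠ a) : ∃ d ∈ ind X a, orderOf d = r := by
  have := Fact.mk hr
  refine ⟨toPermHom X (orbit X a) ⟨c, hc⟩, ⟨_, rfl⟩, ?_⟩
  apply orderOf_eq_prime
  · rw [← map_pow]
    have : (⟨c, hc⟩ : X) ^ r = 1 := by
      apply Subtype.ext
      rw [SubmonoidClass.coe_pow, ← ho]
      exact pow_orderOf_eq_one c
    rw [this, map_one]
  · intro h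
    apply ha
    have h1 := congrArg (fun f : Perm (orbit X a) => (f ⟨a, mem_orbit_self a⟩ : orbit X a)) h
    exact congrArg Subtype.val h1

variable [Fintype α]

theorem card_orbit_le (X : Subgroup (Perm α)) (a : α) : Nat.card (orbit X a) ≤ Fintype.card α := by
  rw [← Nat.card_eq_fintype_card]
  exact Nat.card_le_card_of_injective _ Subtype.val_injective

/-- two big primes -/
theorem two_big [DecidableEq α] (X : Subgroup (Perm α)) {r s : ℕ} (hr : r.Prime) (hs : s.Prime) (hrs : r < s)
    (hbig : Fintype.card α < 2 * r) (h1 : r ∣ Nat.card X) (h2 : s ∣ Nat.card X) :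
    ∃ m, s ≤ m ∧ m * (m - 1) ∣ Nat.card X ∧ (r + 3 ≤ m → m.factorial ∣ 2 * Nat.card X) := by
  classical
  have := Fact.mk hr
  have := Fact.mk hs
  obtain ⟨⟨c, hc⟩, hco⟩ := exists_prime_orderOf_dvd_card' r h1
  obtain ⟨⟨d, hd⟩, hdo⟩ := exists_prime_orderOf_dvd_card' s h2
  rw [Subgroup.orderOf_mk] at hco hdo
  obtain ⟨_, hcs⟩ := isCycle_of hr hbig hco
  obtain ⟨_, hds⟩ := isCycle_of hs (by omega) hdo
  obtain ⟨a, ha⟩ : ∃ a, a ∈ c.support ∩ d.support := by
    by_contra h0
    rw [not_exists, ← Finset.eq_empty_iff_forall_notMem] at h0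
    have h3 := Finset.card_union_add_card_inter c.support d.support
    rw [h0, Finset.card_empty, hcs, hds] at h3
    have h4 := (c.support ∪ d.support).card_le_univ
    omega
  rw [Finset.mem_inter, Perm.mem_support, Perm.mem_support] at ha
  obtain ⟨c', hc', hco'⟩ := exists_ind X hc hr hco ha.1
  obtain ⟨d', hd', hdo'⟩ := exists_ind X hd hs hdo ha.2
  have hfin : Fintype (orbit X a) := Fintype.ofFinite _
  have htr := ind_trans X a
  have hle := card_orbit_le X a
  rw [Nat.card_eq_fintype_card] at hle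
  have hbig' : Fintype.card (orbit X a) < 2 * s := by omega
  obtain ⟨_, hds'⟩ := isCycle_of hs hbig' hdo'
  have hge : s ≤ Fintype.card (orbit X a) := by
    rw [← hds']
    exact d'.support.card_le_univ
  refine ⟨Fintype.card (orbit X a), hge, ?_, fun h3 => ?_⟩
  · exact (dvd_of_big (ind X a) hr (by omega) (by omega) hc' hco').trans (card_ind_dvd X a)
  · exact (factorial_dvd_of_big (ind X a) hr (by omega) h3 hc' hco').trans
      (Nat.mul_dvd_mul_left 2 (card_ind_dvd X a))

/-- one big prime -/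
theorem one_big [DecidableEq α] (X : Subgroup (Perm α)) {s : ℕ} (hs : s.Prime)
    (hbig : Fintype.card α < 2 * s) (h2 : s ∣ Nat.card X) :
    2 ∣ Nat.card X ∨ Nat.card X ∣ s.factorial * (Fintype.card α - s).factorial := by
  classical
  have := Fact.mk hs
  obtain ⟨⟨d, hd⟩, hdo⟩ := exists_prime_orderOf_dvd_card' s h2
  rw [Subgroup.orderOf_mk] at hdo
  obtain ⟨_, hds⟩ := isCycle_of hs (by omega) hdo
  obtain ⟨a, ha⟩ : ∃ a, a ∈ d.support := by
    apply Finset.card_pos.1
    rw [hds]
    exact hs.pos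
  rw [Perm.mem_support] at ha
  obtain ⟨d', hd', hdo'⟩ := exists_ind X hd hs hdo ha
  have hfin : Fintype (orbit X a) := Fintype.ofFinite _
  have htr := ind_trans X a
  have hle := card_orbit_le X a
  rw [Nat.card_eq_fintype_card] at hle
  have hbig' : Fintype.card (orbit X a) < 2 * s := by omega
  obtain ⟨_, hds'⟩ := isCycle_of hs hbig' hdo'
  have hge : s ≤ Fintype.card (orbit X a) := by
    rw [← hds']
    exact d'.support.card_le_univ
  rcases hge.lt_or_eq with hlt | heq
  · left
    have h3 := (dvd_of_big (ind X a) hs (by omega) hlt hd' hdo').trans (card_ind_dvd X a)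
    refine Dvd.dvd.trans ?_ h3
    have h4 := Nat.even_mul_pred_self (Fintype.card (orbit X a))
    exact even_iff_two_dvd.1 h4
  · right
    have hinv : ∀ x ∈ X, ∀ b, x b ∈ orbit X a ↔ b ∈ orbit X a := by
      intro x hx b
      constructor
      · intro h
        have h1 := mem_orbit_of_mem_orbit (⟨x, hx⟩⁻¹ : X) h
        have h2 : (⟨x, hx⟩⁻¹ : X) • x b = b := by
          change x⁻¹ (x b) = b
          simp
        rwa [h2] at h1
      · exact fun h => mem_orbit_of_mem_orbit (⟨x, hx⟩ : X) h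
    have hle2 : X ≤ (subtypeCongrHom (fun b => b ∈ orbit X a)).range := by
      intro x hx
      refine ⟨⟨x.subtypePerm (hinv x hx), x.subtypePerm (fun b => not_congr (hinv x hx b))⟩, ?_⟩
      ext b
      by_cases hb : b ∈ orbit X a
      · exact Perm.subtypeCongr.left_apply _ _ hb
      · exact Perm.subtypeCongr.right_apply _ _ hb
    have h3 := card_dvd_of_le hle2
    rw [← Nat.card_congr (MonoidHom.ofInjective (subtypeCongrHom_injective (fun b => b ∈ orbit X a))).toEquiv,
      Nat.card_prod, Nat.card_perm, Nat.card_perm] at h3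
    have h4 : Nat.card {b // b ∈ orbit X a} = s := by
      rw [heq, ← Nat.card_eq_fintype_card]
    have h5 : Nat.card {b // ¬ b ∈ orbit X a} = Fintype.card α - s := by
      have h6 := Fintype.card_subtype_compl (fun b => b ∈ orbit X a)
      rw [Nat.card_eq_fintype_card, h6, ← h4, Nat.card_eq_fintype_card]
    rwa [h4, h5] at h3

end orbit

end Cfsg.Agent.H528.PDAlt
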