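import Mathlib

/-!
# Centralisers of elements of prime order in symmetric groups (helper528)
-/

set_option autoImplicit false

namespace Cfsg.Agent.H528.PDAlt

open Equiv Equiv.Perm Subgroup Nat

section cent

variable {α : Type*} [Fintype α] [DecidableEq α]

theorem card_cent {x : Perm α} {t : ℕ} (ht : t.Prime) (ho : orderOf x = t) :
    ∃ k, 1 ≤ k ∧ x.support.card = k * t ∧
      Nat.card (centralizer ({x} : Set (Perm α))) = (Fintype.card α - k * t)! * t ^ k * k ! := by
  obtain ⟨k, hk⟩ := cycleType_prime_order (σ := x) (by rw [ho]; exact ht)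
  rw [ho] at hk
  refine ⟨k + 1, by omega, ?_, ?_⟩
  · rw [← x.sum_cycleType, hk, Multiset.sum_replicate, smul_eq_mul]
  · rw [Equiv.Perm.nat_card_centralizer, hk, Multiset.sum_replicate, smul_eq_mul, Multiset.prod_replicate,
      Multiset.toFinset_replicate, if_neg (by omega), Finset.prod_singleton, Multiset.count_replicate_self]

/-- an odd permutation in a subgroup -/
theorem two_mul_inf (H : Subgroup (Perm α)) {σ : Perm α} (hσ : σ ∈ H) (hs : sign σ = -1) :
    2 * Nat.card ↥(H ⊓ alternatingGroup α) = Nat.card H := by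
  have hf : Function.Surjective (sign.comp H.subtype : H →* ℤˣ) := by
    intro u
    rcases Int.units_eq_one_or u with rfl | rfl
    · exact ⟨1, map_one _⟩
    · exact ⟨⟨σ, hσ⟩, hs⟩
  have h1 := (sign.comp H.subtype : H →* ℤˣ).ker.card_mul_index
  rw [Subgroup.index_ker, MonoidHom.range_eq_top.2 hf, Subgroup.card_top] at h1
  have h2 : Nat.card ℤˣ = 2 := by rw [Nat.card_eq_fintype_card]; rfl
  rw [h2, mul_comm] at h1
  rw [← h1]
  congr 1
  have h3 : ((sign.comp H.subtype : H →* ℤˣ).ker).map H.subtype = H ⊓ alternatingGroup α := by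
    ext y
    rw [Subgroup.mem_map, Subgroup.mem_inf]
    constructor
    · rintro ⟨y, hy, rfl⟩
      exact ⟨y.2, hy⟩
    · rintro ⟨hy, hy2⟩
      exact ⟨⟨y, hy⟩, hy2, rfl⟩
  rw [← h3]
  exact (Nat.card_congr (((sign.comp H.subtype : H →* ℤˣ).ker).equivMapOfInjective _
    H.subtype_injective).toEquiv).symm

/-- the basic estimate -/
theorem cent_bound {x : Perm α} {t : ℕ} (ht : t.Prime) (ho : orderOf x = t) {H : Subgroup (Perm α)}
    (hH : ∀ y ∈ H, y * x = x * y) :
    ∃ k, 1 ≤ k ∧ k * t ≤ Fintype.card α ∧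
      (∀ r, r.Prime → r ≠ t → (Nat.card H).factorization r ≤
        ((Fintype.card α - k * t)!).factorization r + (k !).factorization r) ∧
      (¬ t ∣ Nat.card H → Nat.card H ∣ (Fintype.card α - k * t)! * k !) ∧
      (k * t + 2 ≤ Fintype.card α → t ≠ 2 → (Nat.card ↥(H ⊓ alternatingGroup α)).factorization 2 + 1 ≤
        ((Fintype.card α - k * t)!).factorization 2 + (k !).factorization 2) := by
  obtain ⟨k, hk1, hks, hkc⟩ := card_cent ht ho
  have hle : H ≤ centralizer ({x} : Set (Perm α)) := fun y hy => mem_centralizer_singleton_iff.2 (hH y hy)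
  have h1 := card_dvd_of_le hle
  rw [hkc] at h1
  have ha : (Fintype.card α - k * t)! ≠ 0 := Nat.factorial_ne_zero _
  have hb : k ! ≠ 0 := Nat.factorial_ne_zero _
  have hc : t ^ k ≠ 0 := pow_ne_zero _ ht.ne_zero
  have hfac : ∀ r, r ≠ t → ((Fintype.card α - k * t)! * t ^ k * k !).factorization r =
      ((Fintype.card α - k * t)!).factorization r + (k !).factorization r := by
    intro r hrt
    rw [Nat.factorization_mul (mul_ne_zero ha hc) hb, Nat.factorization_mul ha hc, Finsupp.add_apply,
      Finsupp.add_apply, Nat.Prime.factorization_pow ht, Finsupp.single_apply, if_neg hrt.symm, add_zero]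
  refine ⟨k, hk1, ?_, ?_, ?_, ?_⟩
  · rw [← hks]
    exact x.support.card_le_univ
  · intro r hr hrt
    rw [← hfac r hrt]
    exact (Nat.factorization_le_iff_dvd Nat.card_pos.ne' (mul_ne_zero (mul_ne_zero ha hc) hb)).2 h1 r
  · intro hnd
    have h2 : (Nat.card H).Coprime (t ^ k) := (((Nat.Prime.coprime_iff_not_dvd ht).2 hnd).pow_left k).symm
    rw [mul_right_comm] at h1
    exact h2.dvd_of_dvd_mul_right h1
  · intro hk2 ht2
    have h3 : 1 < (Finset.univ \ x.support).card := by
      rw [Finset.card_sdiff_of_subset (Finset.subset_univ _), hks, Finset.card_univ]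
      omega
    obtain ⟨u, hu, w, hw, huw⟩ := Finset.one_lt_card.1 h3
    rw [Finset.mem_sdiff, Perm.mem_support, not_not] at hu hw
    have hsw : swap u w ∈ centralizer ({x} : Set (Perm α)) := by
      rw [mem_centralizer_singleton_iff]
      have h4 := Equiv.mul_swap_eq_swap_mul x u w
      rw [hu.2, hw.2] at h4
      exact h4.symm
    have h5 := two_mul_inf _ hsw (Perm.sign_swap huw)
    have h6 : H ⊓ alternatingGroup α ≤ centralizer ({x} : Set (Perm α)) ⊓ alternatingGroup α :=
      inf_le_inf_right _ hle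
    have h7 := Nat.mul_dvd_mul_left 2 (card_dvd_of_le h6)
    rw [h5, hkc] at h7
    have h8 := (Nat.factorization_le_iff_dvd (mul_ne_zero two_ne_zero Nat.card_pos.ne')
      (mul_ne_zero (mul_ne_zero ha hc) hb)).2 h7 2
    rw [hfac 2 ht2.symm, Nat.factorization_mul two_ne_zero Nat.card_pos.ne', Finsupp.add_apply,
      Nat.Prime.factorization_self Nat.prime_two] at h8
    omega

end cent

end Cfsg.Agent.H528.PDAlt
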