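import Cfsg.Agent.H528.PDAlt.Big
import Cfsg.Agent.H528.PDAlt.Cent
import Cfsg.Agent.H357.PermOrd

/-!
# The configurations in symmetric groups (helper528)
-/

set_option autoImplicit false

namespace Cfsg.Agent.H528.PDAlt

open Equiv Equiv.Perm Subgroup Nat

/-- a configuration in `S_n` -/
structure PC (n : ℕ) (π : Set ℕ) (L K L' K' : Subgroup (Perm (Fin n))) : Prop where
  two : 2 ∉ π
  piL : ∀ r, r.Prime → r ∣ Nat.card L → r ∈ π
  piL' : ∀ r, r.Prime → r ∣ Nat.card L' → r ∈ π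
  piK : ∀ r, r.Prime → r ∣ Nat.card K → r ∉ π
  piK' : ∀ r, r.Prime → r ∣ Nat.card K' → r ∉ π
  comm : ∀ a ∈ L, ∀ b ∈ K, a * b = b * a
  comm' : ∀ a ∈ L', ∀ b ∈ K', a * b = b * a
  ne : L ≠ ⊥
  ne' : L' ≠ ⊥
  numL : ∀ r, r.Prime → r ∈ π → (n !).factorization r ≤ (Nat.card L).factorization r + (Nat.card L').factorization r
  numK : ∀ r, r.Prime → r ≠ 2 → r ∉ π →
    (n !).factorization r ≤ (Nat.card K).factorization r + (Nat.card K').factorization r
  two1 : (n !).factorization 2 ≤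
    (Nat.card K).factorization 2 + (Nat.card ↥(K' ⊓ alternatingGroup (Fin n))).factorization 2 + 1
  two2 : (n !).factorization 2 ≤
    (Nat.card K').factorization 2 + (Nat.card ↥(K ⊓ alternatingGroup (Fin n))).factorization 2 + 1

theorem fact_pos_iff {m r : ℕ} (hr : r.Prime) (hm : m ≠ 0) : 1 ≤ m.factorization r ↔ r ∣ m :=
  (hr.dvd_iff_one_le_factorization hm).symm

theorem fact_le {a b r : ℕ} (hb : b ≠ 0) (h : a ∣ b) : a.factorization r ≤ b.factorization r := by
  have ha : a ≠ 0 := fun h0 => hb (Nat.eq_zero_of_zero_dvd (h0 ▸ h))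
  exact (Nat.factorization_le_iff_dvd ha hb).2 h r

theorem inf_le_card {n : ℕ} (H : Subgroup (Perm (Fin n))) (r : ℕ) :
    (Nat.card ↥(H ⊓ alternatingGroup (Fin n))).factorization r ≤ (Nat.card H).factorization r :=
  fact_le Nat.card_pos.ne' (card_dvd_of_le inf_le_left)

theorem exists_order {G : Type*} [Group G] [Finite G] {H : Subgroup G} {r : ℕ} (hr : r.Prime)
    (h : r ∣ Nat.card H) : ∃ x ∈ H, orderOf x = r := by
  have := Fact.mk hr
  obtain ⟨⟨x, hx⟩, hxo⟩ := exists_prime_orderOf_dvd_card' r h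
  exact ⟨x, hx, by rw [← hxo, Subgroup.orderOf_mk]⟩

theorem order_dvd {G : Type*} [Group G] {H : Subgroup G} {x : G} (hx : x ∈ H) : orderOf x ∣ Nat.card H := by
  have := orderOf_dvd_natCard (⟨x, hx⟩ : H)
  rwa [Subgroup.orderOf_mk] at this

namespace PC

variable {n : ℕ} {π : Set ℕ} {L K L' K' : Subgroup (Perm (Fin n))}

theorem symm (h : PC n π L K L' K') : PC n π L' K' L K :=
  ⟨h.two, h.piL', h.piL, h.piK', h.piK, h.comm', h.comm, h.ne', h.ne,
    fun r hr hp => by rw [add_comm]; exact h.numL r hr hp,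
    fun r hr h2 hp => by rw [add_comm]; exact h.numK r hr h2 hp, h.two2, h.two1⟩

theorem odd (h : PC n π L K L' K') : ¬ 2 ∣ Nat.card L := fun h2 => h.two (h.piL 2 Nat.prime_two h2)

theorem ne_two (h : PC n π L K L' K') {t : ℕ} (ht : t ∈ π) : t ≠ 2 := fun h2 => h.two (h2 ▸ ht)

/-- a prime divides `|L|` -/
theorem exists_prime (h : PC n π L K L' K') : ∃ t, t.Prime ∧ t ∣ Nat.card L ∧ t ∈ π ∧ 3 ≤ t := by
  have h1 : Nat.card L ≠ 1 := fun h0 => h.ne (eq_bot_of_card_eq _ h0)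
  obtain ⟨t, ht, htd⟩ := Nat.exists_prime_and_dvd h1
  have h2 := h.piL t ht htd
  have h3 := h.ne_two h2
  have h4 := ht.two_le
  exact ⟨t, ht, htd, h2, by omega⟩

/-- a prime `≤ n` divides one of the four orders -/
theorem mem_or (h : PC n π L K L' K') {r : ℕ} (hr : r.Prime) (h2 : r ≠ 2) (hrn : r ≤ n) :
    (r ∣ Nat.card L ∨ r ∣ Nat.card L') ∨ r ∣ Nat.card K ∨ r ∣ Nat.card K' := by
  have h3 : 1 ≤ (n !).factorization r :=
    (fact_pos_iff hr (Nat.factorial_ne_zero n)).2 ((hr.dvd_factorial).2 hrn)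
  by_cases hp : r ∈ π
  · left
    have h4 := h.numL r hr hp
    by_contra h5
    rw [not_or] at h5
    rw [Nat.factorization_eq_zero_of_not_dvd h5.1, Nat.factorization_eq_zero_of_not_dvd h5.2] at h4
    omega
  · right
    have h4 := h.numK r hr h2 hp
    by_contra h5
    rw [not_or] at h5
    rw [Nat.factorization_eq_zero_of_not_dvd h5.1, Nat.factorization_eq_zero_of_not_dvd h5.2] at h4
    omega

/-- `r` in `L` and `s` in `K` -/
theorem nonAdj (h : PC n π L K L' K') {r s : ℕ} (hr : r.Prime) (hs : s.Prime) (hn : n < r + s)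
    (h1 : r ∣ Nat.card L) (h2 : s ∣ Nat.card K) : False := by
  have hrs : r ≠ s := by
    rintro rfl
    exact h.piK r hr h2 (h.piL r hr h1)
  obtain ⟨x, hx, hxo⟩ := exists_order hr h1
  obtain ⟨y, hy, hyo⟩ := exists_order hs h2
  have hxy := h.comm x hx y hy
  have hco : (orderOf x).Coprime (orderOf y) := by
    rw [hxo, hyo]
    exact (Nat.coprime_primes hr hs).2 hrs
  have h3 := (show Commute x y from hxy).orderOf_mul_eq_mul_orderOf_of_coprime hco
  rw [hxo, hyo] at h3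
  exact Cfsg.Agent.H357.PermOrd.nonAdj hr hs hrs hn (x * y) h3

/-- `K` centralises an element of `L` -/
theorem cK (h : PC n π L K L' K') {t : ℕ} (ht : t.Prime) (h1 : t ∣ Nat.card L) :
    ∃ k, 1 ≤ k ∧ k * t ≤ n ∧ Nat.card K ∣ (n - k * t)! * k ! ∧
      (∀ r, (Nat.card K).factorization r ≤ ((n - k * t)!).factorization r + (k !).factorization r) ∧
      (k * t + 2 ≤ n → (Nat.card ↥(K ⊓ alternatingGroup (Fin n))).factorization 2 + 1 ≤
        ((n - k * t)!).factorization 2 + (k !).factorization 2) := by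
  obtain ⟨x, hx, hxo⟩ := exists_order ht h1
  obtain ⟨k, hk1, hk2, hk3, hk4, hk5⟩ := cent_bound (H := K) ht hxo (fun y hy => (h.comm x hx y hy).symm)
  rw [Fintype.card_fin] at *
  have hnd : ¬ t ∣ Nat.card K := fun h2 => h.piK t ht h2 (h.piL t ht h1)
  refine ⟨k, hk1, hk2, hk4 hnd, ?_, fun h2 => hk5 h2 (h.ne_two (h.piL t ht h1))⟩
  intro r
  rw [← Finsupp.add_apply, ← Nat.factorization_mul (Nat.factorial_ne_zero _) (Nat.factorial_ne_zero _)]
  exact fact_le (mul_ne_zero (Nat.factorial_ne_zero _) (Nat.factorial_ne_zero _)) (hk4 hnd)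

/-- `L` centralises an element of `K` -/
theorem cL (h : PC n π L K L' K') {t : ℕ} (ht : t.Prime) (h1 : t ∣ Nat.card K) :
    ∃ k, 1 ≤ k ∧ k * t ≤ n ∧ Nat.card L ∣ (n - k * t)! * k ! ∧
      (∀ r, (Nat.card L).factorization r ≤ ((n - k * t)!).factorization r + (k !).factorization r) := by
  obtain ⟨x, hx, hxo⟩ := exists_order ht h1
  obtain ⟨k, hk1, hk2, hk3, hk4, hk5⟩ := cent_bound (H := L) ht hxo (fun y hy => h.comm y hy x hx)
  rw [Fintype.card_fin] at *
  have hnd : ¬ t ∣ Nat.card L := fun h2 => h.piK t ht h1 (h.piL t ht h2)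
  refine ⟨k, hk1, hk2, hk4 hnd, ?_⟩
  intro r
  rw [← Finsupp.add_apply, ← Nat.factorization_mul (Nat.factorial_ne_zero _) (Nat.factorial_ne_zero _)]
  exact fact_le (mul_ne_zero (Nat.factorial_ne_zero _) (Nat.factorial_ne_zero _)) (hk4 hnd)

theorem one_of_big {k t : ℕ} (hk : 1 ≤ k) (hkt : k * t ≤ n) (hbig : n < 2 * t) : k = 1 := by
  by_contra h0
  have h1 : 2 ≤ k := by omega
  have h2 : 2 * t ≤ k * t := Nat.mul_le_mul_right t h1
  omega

theorem big_K (h : PC n π L K L' K') {t : ℕ} (ht : t.Prime) (h1 : t ∣ Nat.card L) (hbig : n < 2 * t) :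
    Nat.card K ∣ (n - t)! ∧ (t + 2 ≤ n → (Nat.card ↥(K ⊓ alternatingGroup (Fin n))).factorization 2 + 1 ≤
        ((n - t)!).factorization 2) := by
  obtain ⟨k, hk1, hk2, hk3, -, hk5⟩ := h.cK ht h1
  obtain rfl := one_of_big hk1 hk2 hbig
  rw [one_mul] at *
  rw [Nat.factorial_one, mul_one] at hk3
  refine ⟨hk3, fun h2 => ?_⟩
  have h3 := hk5 h2
  rwa [Nat.factorial_one, Nat.factorization_one, Finsupp.zero_apply, add_zero] at h3

theorem big_L (h : PC n π L K L' K') {t : ℕ} (ht : t.Prime) (h1 : t ∣ Nat.card K) (hbig : n < 2 * t) :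
    Nat.card L ∣ (n - t)! := by
  obtain ⟨k, hk1, hk2, hk3, -⟩ := h.cL ht h1
  obtain rfl := one_of_big hk1 hk2 hbig
  rw [one_mul] at *
  rwa [Nat.factorial_one, mul_one] at hk3

/-- two big primes cannot divide `|L|` -/
theorem no_two_L (h : PC n π L K L' K') {r s : ℕ} (hr : r.Prime) (hs : s.Prime) (hrs : r < s) (hbig : n < 2 * r)
    (h1 : r ∣ Nat.card L) (h2 : s ∣ Nat.card L) : False := by
  obtain ⟨m, hm1, hm2, -⟩ := two_big L hr hs hrs (by rwa [Fintype.card_fin]) h1 h2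
  exact h.odd ((even_iff_two_dvd.1 (Nat.even_mul_pred_self m)).trans hm2)

/-- two big primes, not twins, cannot divide `|K|` -/
theorem no_two_K (h : PC n π L K L' K') {r s : ℕ} (hr : r.Prime) (hs : s.Prime) (hrs : r + 3 ≤ s) (hbig : n < 2 * r)
    (h1 : r ∣ Nat.card K) (h2 : s ∣ Nat.card K) : False := by
  obtain ⟨m, hm1, -, hm2⟩ := two_big K hr hs (by omega) (by rwa [Fintype.card_fin]) h1 h2
  obtain ⟨t, ht, htd, htp, ht3⟩ := h.exists_prime
  have h3 := h.big_L hs h2 (by omega)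
  have h4 : t ≤ n - s := (ht.dvd_factorial).1 (htd.trans h3)
  have h5 : t ∣ 2 * Nat.card K := ((ht.dvd_factorial).2 (by omega)).trans (hm2 (by omega))
  rcases (ht.dvd_mul).1 h5 with h6 | h6
  · have := Nat.le_of_dvd two_pos h6
    omega
  · exact h.piK t ht h6 htp

/-- two big primes cannot divide `|K|` if `3 ∈ π` -/
theorem no_two_K3 (h : PC n π L K L' K') {r s : ℕ} (hr : r.Prime) (hs : s.Prime) (hrs : r < s) (h3 : 3 < r)
    (hbig : n < 2 * r) (h1 : r ∣ Nat.card K) (h2 : s ∣ Nat.card K) : 3 ∉ π := by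
  apply h.piK 3 Nat.prime_three
  obtain ⟨m, hm1, hm2, hm3⟩ := two_big K hr hs (by omega) (by rwa [Fintype.card_fin]) h1 h2
  by_cases h4 : r + 3 ≤ m
  · have h5 : 3 ∣ 2 * Nat.card K := ((Nat.prime_three.dvd_factorial).2 (by omega)).trans (hm3 h4)
    rcases (Nat.prime_three.dvd_mul).1 h5 with h6 | h6
    · omega
    · exact h6
  · refine Dvd.dvd.trans ?_ hm2
    have hr2 : r % 2 = 1 := Nat.odd_iff.1 (hr.odd_of_ne_two (by omega))
    have hs2 : s % 2 = 1 := Nat.odd_iff.1 (hs.odd_of_ne_two (by omega))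
    have h5 : m = r + 2 ∧ s = r + 2 := by omega
    have h6 : ¬ 3 ∣ r := fun h0 => by have := (Nat.prime_dvd_prime_iff_eq Nat.prime_three hr).1 h0; omega
    have h7 : ¬ 3 ∣ s := fun h0 => by have := (Nat.prime_dvd_prime_iff_eq Nat.prime_three hs).1 h0; omega
    obtain ⟨h8, h9⟩ := h5
    have h10 : r % 3 = 2 := by
      have h11 : r % 3 = 0 ∨ r % 3 = 1 ∨ r % 3 = 2 := by omega
      rcases h11 with h11 | h11 | h11
      · exact absurd (Nat.dvd_of_mod_eq_zero h11) h6
      · exact absurd (Nat.dvd_of_mod_eq_zero (by omega)) h7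
      · exact h11
    apply Dvd.dvd.mul_left
    omega

/-- two big primes, not twins, are not in the same pair -/
theorem same (h : PC n π L K L' K') {r s : ℕ} (hr : r.Prime) (hs : s.Prime) (hrs : r + 3 ≤ s) (hbig : n < 2 * r)
    (h1 : r ∣ Nat.card L ∨ r ∣ Nat.card K) (h2 : s ∣ Nat.card L ∨ s ∣ Nat.card K) : False := by
  rcases h1 with h1 | h1 <;> rcases h2 with h2 | h2
  · exact h.no_two_L hr hs (by omega) hbig h1 h2
  · exact h.nonAdj hr hs (by omega) h1 h2
  · exact h.nonAdj hs hr (by omega) h2 h1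
  · exact h.no_two_K hr hs hrs hbig h1 h2

/-- three big primes -/
theorem three (h : PC n π L K L' K') {a b c : ℕ} (ha : a.Prime) (hb : b.Prime) (hc : c.Prime) (hab : a + 3 ≤ b)
    (hbc : b + 3 ≤ c) (hcn : c ≤ n) (hbig : n < 2 * a) (h3 : 3 ≤ a) : False := by
  have key : ∀ r, r.Prime → 3 ≤ r → r ≤ n →
      (r ∣ Nat.card L ∨ r ∣ Nat.card K) ∨ (r ∣ Nat.card L' ∨ r ∣ Nat.card K') := by
    intro r hr h2 hrn
    rcases h.mem_or hr (by omega) hrn with (h4 | h4) | h4 | h4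
    · exact Or.inl (Or.inl h4)
    · exact Or.inr (Or.inl h4)
    · exact Or.inl (Or.inr h4)
    · exact Or.inr (Or.inr h4)
  rcases key a ha (by omega) (by omega) with ha' | ha' <;> rcases key b hb (by omega) (by omega) with hb' | hb'
  · exact h.same ha hb hab hbig ha' hb'
  · rcases key c hc (by omega) hcn with hc' | hc'
    · exact h.same ha hc (by omega) hbig ha' hc'
    · exact h.symm.same hb hc hbc (by omega) hb' hc'
  · rcases key c hc (by omega) hcn with hc' | hc'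
    · exact h.same hb hc hbc (by omega) hb' hc'
    · exact h.symm.same ha hc (by omega) hbig ha' hc'
  · exact h.symm.same ha hb hab hbig ha' hb'

end PC

end Cfsg.Agent.H528.PDAlt
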