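import Cfsg.Agent.H528.PDAlt.Conf
import Cfsg.Agent.H357.NT

/-!
# Configurations in `S_n`, `n ≥ 29` and `23 ≤ n ≤ 25` (helper528)
-/

set_option autoImplicit false

namespace Cfsg.Agent.H528.PDAlt

/-- three big primes with gaps -/
def T3 (n : ℕ) : Prop :=
  ∃ a b c : ℕ, a.Prime ∧ b.Prime ∧ c.Prime ∧ a + 3 ≤ b ∧ b + 3 ≤ c ∧ c ≤ n ∧ n < 2 * a ∧ 3 ≤ a

theorem T3.of (a b c : ℕ) (ha : a.Prime) (hb : b.Prime) (hc : c.Prime) (hab : a + 3 ≤ b) (hbc : b + 3 ≤ c)
    (h3 : 3 ≤ a) {n : ℕ} (hcn : c ≤ n) (hbig : n < 2 * a) : T3 n := ⟨a, b, c, ha, hb, hc, hab, hbc, hcn, hbig, h3⟩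

theorem T3.small {n : ℕ} (h1 : 29 ≤ n) (h2 : n < 106) : T3 n := by
  by_cases h : n < 34
  · exact T3.of 17 23 29 (by norm_num) (by norm_num) (by norm_num) (by norm_num) (by norm_num) (by norm_num)
      (by omega) (by omega)
  by_cases h : n < 38
  · exact T3.of 19 23 29 (by norm_num) (by norm_num) (by norm_num) (by norm_num) (by norm_num) (by norm_num)
      (by omega) (by omega)
  by_cases h : n < 46
  · exact T3.of 23 29 37 (by norm_num) (by norm_num) (by norm_num) (by norm_num) (by norm_num) (by norm_num)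
      (by omega) (by omega)
  by_cases h : n < 58
  · exact T3.of 29 37 41 (by norm_num) (by norm_num) (by norm_num) (by norm_num) (by norm_num) (by norm_num)
      (by omega) (by omega)
  by_cases h : n < 74
  · exact T3.of 37 41 47 (by norm_num) (by norm_num) (by norm_num) (by norm_num) (by norm_num) (by norm_num)
      (by omega) (by omega)
  by_cases h : n < 82
  · exact T3.of 41 47 53 (by norm_num) (by norm_num) (by norm_num) (by norm_num) (by norm_num) (by norm_num)
      (by omega) (by omega)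
  by_cases h : n < 94
  · exact T3.of 47 53 59 (by norm_num) (by norm_num) (by norm_num) (by norm_num) (by norm_num) (by norm_num)
      (by omega) (by omega)
  · exact T3.of 53 59 67 (by norm_num) (by norm_num) (by norm_num) (by norm_num) (by norm_num) (by norm_num)
      (by omega) (by omega)

theorem T3.large {n : ℕ} (h1 : 106 ≤ n) : T3 n := by
  obtain ⟨c, c', hc, hc', hc1, hc2, hc3⟩ := Cfsg.Agent.H357.NT.two_primes (n := n) (by omega)
  obtain ⟨b, b', hb, hb', hb1, hb2, hb3⟩ := Cfsg.Agent.H357.NT.two_primes (n := 4 * n / 5) (by omega)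
  obtain ⟨a, a', ha, ha', ha1, ha2, ha3⟩ := Cfsg.Agent.H357.NT.two_primes (n := 4 * (4 * n / 5) / 5) (by omega)
  have hbo := Nat.odd_iff.1 (hb.odd_of_ne_two (by omega))
  have hbo' := Nat.odd_iff.1 (hb'.odd_of_ne_two (by omega))
  have hao := Nat.odd_iff.1 (ha.odd_of_ne_two (by omega))
  have hao' := Nat.odd_iff.1 (ha'.odd_of_ne_two (by omega))
  exact T3.of a b c ha hb hc (by omega) (by omega) (by omega) (by omega) (by omega)

theorem T3.mid {n : ℕ} (h1 : 23 ≤ n) (h2 : n ≤ 25) : T3 n :=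
  T3.of 13 17 23 (by norm_num) (by norm_num) (by norm_num) (by norm_num) (by norm_num) (by norm_num)
      (by omega) (by omega)

theorem t3 {n : ℕ} (h : 29 ≤ n ∨ 23 ≤ n ∧ n ≤ 25) : T3 n := by
  rcases h with h | h
  · by_cases h2 : n < 106
    · exact T3.small h h2
    · exact T3.large (by omega)
  · exact T3.mid h.1 h.2

open Equiv Subgroup in
theorem PC.large {n : ℕ} {π : Set ℕ} {L K L' K' : Subgroup (Perm (Fin n))} (h : PC n π L K L' K')
    (hn : 29 ≤ n ∨ 23 ≤ n ∧ n ≤ 25) : False := by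
  obtain ⟨a, b, c, ha, hb, hc, hab, hbc, hcn, hbig, h3⟩ := t3 hn
  exact h.three ha hb hc hab hbc hcn hbig h3

end Cfsg.Agent.H528.PDAlt
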