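import Cfsg.Agent.H528.PDAlt.Large

/-!
# Configurations in `S_n`, small `n` (helper528)
-/

set_option autoImplicit false

namespace Cfsg.Agent.H528.PDAlt

open Equiv Equiv.Perm Subgroup Nat

theorem v2f {m : ℕ} (h : m < 64) : (m !).factorization 2 = m / 2 + m / 4 + m / 8 + m / 16 + m / 32 := by
  rw [Nat.factorization_factorial Nat.prime_two (b := 6) (Nat.log_lt_of_lt_pow' (by norm_num) (by omega))]
  simp [Finset.sum_Ico_succ_top]

theorem v3f {m : ℕ} (h : m < 64) : (m !).factorization 3 = m / 3 + m / 9 + m / 27 := by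
  rw [Nat.factorization_factorial Nat.prime_three (b := 4) (Nat.log_lt_of_lt_pow' (by norm_num) (by omega))]
  simp [Finset.sum_Ico_succ_top]

theorem v5f {m : ℕ} (h : m < 64) : (m !).factorization 5 = m / 5 + m / 25 := by
  rw [Nat.factorization_factorial Nat.prime_five (b := 3) (Nat.log_lt_of_lt_pow' (by norm_num) (by omega))]
  simp [Finset.sum_Ico_succ_top]

theorem fact_dvd3 {n m k : ℕ} (hk : 1 ≤ k) (h : m + 3 * k ≤ n) : m ! * k ! ∣ (n - 3)! := by
  rcases hk.lt_or_eq with h1 | rfl
  · exact (Nat.factorial_mul_factorial_dvd_factorial_add m k).trans (Nat.factorial_dvd_factorial (by omega))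
  · rw [Nat.factorial_one, mul_one]
    exact Nat.factorial_dvd_factorial (by omega)

theorem fact_dvd5 {n m k : ℕ} (hk : 1 ≤ k) (h : m + 5 * k ≤ n) : m ! * k ! ∣ (n - 5)! := by
  rcases hk.lt_or_eq with h1 | rfl
  · exact (Nat.factorial_mul_factorial_dvd_factorial_add m k).trans (Nat.factorial_dvd_factorial (by omega))
  · rw [Nat.factorial_one, mul_one]
    exact Nat.factorial_dvd_factorial (by omega)

theorem sum5 {a b c d e a' b' c' d' e' A B C D E : ℕ} (h1 : a + a' < A) (h2 : b + b' ≤ B) (h3 : c + c' ≤ C)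
    (h4 : d + d' ≤ D) (h5 : e + e' ≤ E) :
    a + b + c + d + e + (a' + b' + c' + d' + e') < A + B + C + D + E := by
  omega

theorem sum5' {v a b c d e a' b' c' d' e' A B C D E : ℕ} (h1 : a + a' + 1 < A) (h2 : b + b' ≤ B) (h3 : c + c' ≤ C)
    (h4 : d + d' ≤ D) (h5 : e + e' ≤ E) (h : v ≤ a + b + c + d + e + (a' + b' + c' + d' + e')) :
    v + 1 < A + B + C + D + E := by
  omega

namespace PC

variable {n : ℕ} {π : Set ℕ} {L K L' K' : Subgroup (Perm (Fin n))}

/-- `K` centralises an element of odd prime order -/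
theorem K3 (h : PC n π L K L' K') (r : ℕ) : (Nat.card K).factorization r ≤ ((n - 3)!).factorization r := by
  obtain ⟨t, ht, htd, -, ht3⟩ := h.exists_prime
  obtain ⟨k, hk1, hk2, hk3, -⟩ := h.cK ht htd
  have h1 : k * 3 ≤ k * t := Nat.mul_le_mul_left k ht3
  exact fact_le (Nat.factorial_ne_zero _) (hk3.trans (fact_dvd3 hk1 (by omega)))

/-- `K` centralises an element of prime order `≥ 5` -/
theorem K5 (h : PC n π L K L' K') {t : ℕ} (ht : t.Prime) (h5 : 5 ≤ t) (htd : t ∣ Nat.card L) (r : ℕ) :
    (Nat.card K).factorization r ≤ ((n - 5)!).factorization r := by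
  obtain ⟨k, hk1, hk2, hk3, -⟩ := h.cK ht htd
  have h1 : k * 5 ≤ k * t := Nat.mul_le_mul_left k h5
  exact fact_le (Nat.factorial_ne_zero _) (hk3.trans (fact_dvd5 hk1 (by omega)))

/-- the `2`-part of the alternating part of `K` -/
theorem KA (h : PC n π L K L' K') (hn : 5 ≤ n) (hn' : n < 64) :
    (Nat.card ↥(K ⊓ alternatingGroup (Fin n))).factorization 2 + 1 < (n !).factorization 2 := by
  obtain ⟨t, ht, htd, -, ht3⟩ := h.exists_prime
  obtain ⟨k, hk1, hk2, -, hk4, hk5⟩ := h.cK ht htd
  have h1 : k * 3 ≤ k * t := Nat.mul_le_mul_left k ht3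
  obtain ⟨m, hm⟩ : ∃ m, m = n - k * t := ⟨_, rfl⟩
  have hm3 : m + 3 * k ≤ n := by omega
  rw [← hm] at hk4 hk5
  have h4 : m / 4 + k / 4 ≤ n / 4 := by clear * - hm3; omega
  have h5 : m / 8 + k / 8 ≤ n / 8 := by clear * - hm3; omega
  have h6 : m / 16 + k / 16 ≤ n / 16 := by clear * - hm3; omega
  have h7 : m / 32 + k / 32 ≤ n / 32 := by clear * - hm3; omega
  by_cases h2 : k * t + 2 ≤ n
  · refine (hk5 h2).trans_lt ?_
    rw [v2f (m := m) (by omega), v2f (m := k) (by omega), v2f (m := n) hn']
    have h3 : m / 2 + k / 2 < n / 2 := by clear * - hm3 hk1; omega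
    exact sum5 h3 h4 h5 h6 h7
  · have h3 := (inf_le_card K 2).trans (hk4 2)
    rw [v2f (m := m) (by omega), v2f (m := k) (by omega)] at h3
    rw [v2f (m := n) hn']
    have h8 : m ≤ 1 := by clear * - h2 hm; omega
    have h9 : m / 2 + k / 2 + 1 < n / 2 := by clear * - hm3 h8 hn; omega
    exact sum5' h9 h4 h5 h6 h7 h3

/-- largest prime in `K`, two other big primes, `3 ∈ π` -/
theorem kill (h : PC n π L K L' K') {a b P : ℕ} (ha : a.Prime) (hb : b.Prime) (hP : P.Prime) (hab : a < b)
    (hbP : b < P) (hPn : P ≤ n) (hbig : n < 2 * a) (h3 : 3 < a) (hPK : P ∣ Nat.card K) (hπ : 3 ∈ π) : False := by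
  have hL := h.big_L hP hPK (by omega)
  have key : ∀ r, r.Prime → a ≤ r → r < P → r ∣ Nat.card L' ∨ r ∣ Nat.card K' := by
    intro r hr har hrP
    rcases h.mem_or hr (by omega) (by omega) with (h1 | h1) | h1 | h1
    · have := (hr.dvd_factorial).1 (h1.trans hL)
      omega
    · exact Or.inl h1
    · exact absurd hπ (h.no_two_K3 hr hP hrP (by omega) (by omega) h1 hPK)
    · exact Or.inr h1
  rcases key a ha le_rfl (by omega) with h1 | h1 <;> rcases key b hb (by omega) hbP with h2 | h2
  · exact h.symm.no_two_L ha hb hab hbig h1 h2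
  · exact h.symm.nonAdj ha hb (by omega) h1 h2
  · exact h.symm.nonAdj hb ha (by omega) h2 h1
  · exact h.symm.no_two_K3 ha hb hab h3 hbig h1 h2 hπ

/-- both in the second pair -/
theorem both (h : PC n π L K L' K') {a b : ℕ} (ha : a.Prime) (hb : b.Prime) (hab : a < b)
    (hbig : n < 2 * a) (h1 : a ∣ Nat.card L' ∨ a ∣ Nat.card K') (h2 : b ∣ Nat.card L' ∨ b ∣ Nat.card K') :
    a ∣ Nat.card K' ∧ b ∣ Nat.card K' := by
  rcases h1 with h1 | h1 <;> rcases h2 with h2 | h2
  · exact absurd (h.symm.no_two_L ha hb hab hbig h1 h2) id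
  · exact absurd (h.symm.nonAdj ha hb (by omega) h1 h2) id
  · exact absurd (h.symm.nonAdj hb ha (by omega) h2 h1) id
  · exact ⟨h1, h2⟩

/-- `P ∣ |K|` and `n - P ≤ 2` -/
theorem caseK (h : PC n π L K L' K') {P : ℕ} (hP : P.Prime) (hbig : n < 2 * P) (hg : n ≤ P + 2)
    (hPK : P ∣ Nat.card K) : False := by
  have hL := h.big_L hP hPK hbig
  obtain ⟨t, ht, htd, -, ht3⟩ := h.exists_prime
  have := (ht.dvd_factorial).1 (htd.trans hL)
  omega

/-- `P ∣ |L|` and `n - P ≤ 1` -/
theorem caseL1 (h : PC n π L K L' K') {P : ℕ} (hP : P.Prime) (hbig : n < 2 * P) (hg : n ≤ P + 1)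
    (hn : 5 ≤ n) (hn' : n < 64) (hPL : P ∣ Nat.card L) : False := by
  have hK := (h.big_K hP hPL hbig).1
  have h1 : (n - P)! = 1 := Nat.factorial_eq_one.2 (by omega)
  rw [h1, Nat.dvd_one] at hK
  have h2 := h.two1
  have h3 := h.symm.KA hn hn'
  rw [hK, Nat.factorization_one, Finsupp.zero_apply] at h2
  omega

/-- `P ∣ |L|` and `n - P = 2` -/
theorem caseL2 (h : PC n π L K L' K') {P : ℕ} (hP : P.Prime) (hbig : n < 2 * P) (hg : n = P + 2)
    (hPL : P ∣ Nat.card L) : (n !).factorization 2 ≤ (Nat.card K').factorization 2 + 1 := by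
  have hK := (h.big_K hP hPL hbig).2 (by omega)
  have h1 : n - P = 2 := by omega
  rw [h1, v2f (by norm_num)] at hK
  have h2 := h.two2
  omega

/-- `P ∣ |L|` and `n - P = 3` -/
theorem caseL3 (h : PC n π L K L' K') {P : ℕ} (hP : P.Prime) (hbig : n < 2 * P) (hg : n = P + 3)
    (hPL : P ∣ Nat.card L) : (n !).factorization 2 ≤ ((n - 3)!).factorization 2 + 1 := by
  have hK := (h.big_K hP hPL hbig).2 (by omega)
  have h1 : n - P = 3 := by omega
  rw [h1, v2f (by norm_num)] at hK
  have h2 := h.two2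
  have h3 := h.symm.K3 2
  omega

theorem reduce (h : PC n π L K L' K') {P : ℕ} (hP : P.Prime) (hP2 : P ≠ 2) (hPn : P ≤ n)
    (h1 : ∀ (L K L' K' : Subgroup (Perm (Fin n))), PC n π L K L' K' → P ∣ Nat.card L → False)
    (h2 : ∀ (L K L' K' : Subgroup (Perm (Fin n))), PC n π L K L' K' → P ∣ Nat.card K → False) : False := by
  rcases h.mem_or hP hP2 hPn with (h3 | h3) | h3 | h3
  · exact h1 _ _ _ _ h h3
  · exact h1 _ _ _ _ h.symm h3
  · exact h2 _ _ _ _ h h3
  · exact h2 _ _ _ _ h.symm h3

theorem g1 (h : PC n π L K L' K') {P : ℕ} (hP : P.Prime) (hP2 : P ≠ 2) (hPn : P ≤ n) (hbig : n < 2 * P)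
    (hg : n ≤ P + 1) (hn : 5 ≤ n) (hn' : n < 64) : False :=
  h.reduce hP hP2 hPn (fun _ _ _ _ h' => h'.caseL1 hP hbig hg hn hn')
    (fun _ _ _ _ h' => h'.caseK hP hbig (by omega))

theorem n9 {L K L' K' : Subgroup (Perm (Fin 9))} (h : PC 9 π L K L' K') : False := by
  have hP : Nat.Prime 7 := by norm_num
  refine h.reduce hP (by omega) (by omega) (fun _ _ _ _ h' hd => ?_)
    (fun _ _ _ _ h' => h'.caseK hP (by omega) (by omega))
  have h1 := h'.caseL2 hP (by omega) (by omega) hd
  have h2 := h'.symm.K3 2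
  rw [v2f (by norm_num)] at h1 h2
  omega

theorem n21 {L K L' K' : Subgroup (Perm (Fin 21))} (h : PC 21 π L K L' K') : False := by
  have hP : Nat.Prime 19 := by norm_num
  refine h.reduce hP (by omega) (by omega) (fun _ _ _ _ h' hd => ?_)
    (fun _ _ _ _ h' => h'.caseK hP (by omega) (by omega))
  have h1 := h'.caseL2 hP (by omega) (by omega) hd
  have h2 := h'.symm.K3 2
  rw [v2f (by norm_num)] at h1 h2
  omega

theorem n15 {L K L' K' : Subgroup (Perm (Fin 15))} (h : PC 15 π L K L' K') : False := by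
  have hP : Nat.Prime 13 := by norm_num
  refine h.reduce hP (by omega) (by omega) (fun L K L' K' h' hd => ?_)
    (fun _ _ _ _ h' => h'.caseK hP (by omega) (by omega))
  have h1 := h'.caseL2 hP (by omega) (by omega) hd
  rw [v2f (by norm_num)] at h1
  by_cases h5 : 5 ∈ π
  · have h2 := h'.numL 5 Nat.prime_five h5
    have h3 := (one_big L hP (by rw [Fintype.card_fin]; omega) hd).resolve_left h'.odd
    rw [Fintype.card_fin] at h3
    have h4 := fact_le (r := 5) (mul_ne_zero (Nat.factorial_ne_zero _) (Nat.factorial_ne_zero _)) h3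
    rw [Nat.factorization_mul (Nat.factorial_ne_zero _) (Nat.factorial_ne_zero _), Finsupp.add_apply,
      v5f (by norm_num), v5f (by norm_num)] at h4
    rw [v5f (by norm_num)] at h2
    have h6 : 5 ∣ Nat.card L' := (fact_pos_iff Nat.prime_five Nat.card_pos.ne').1 (by omega)
    have h7 := h'.symm.K5 Nat.prime_five le_rfl h6 2
    rw [v2f (by norm_num)] at h7
    omega
  · have h2 := h'.numK 5 Nat.prime_five (by norm_num) h5
    have h3 := (h'.big_K hP hd (by omega)).1
    have h4 := fact_le (r := 5) (Nat.factorial_ne_zero _) h3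
    have h6 := h'.symm.K3 5
    rw [v5f (by norm_num)] at h2 h4 h6
    omega

/-- `P ∣ |K|` and `n - P = 3` -/
theorem caseK3 (h : PC n π L K L' K') {P : ℕ} (hP : P.Prime) (hbig : n < 2 * P) (hg : n = P + 3)
    (hPK : P ∣ Nat.card K) : 3 ∣ Nat.card L ∧ 3 ∈ π ∧ Nat.card L ∣ 3 ! := by
  have hL := h.big_L hP hPK hbig
  have h1 : n - P = 3 := by omega
  rw [h1] at hL
  obtain ⟨t, ht, htd, htp, ht3⟩ := h.exists_prime
  have h2 := (ht.dvd_factorial).1 (htd.trans hL)
  obtain rfl : t = 3 := by omega
  exact ⟨htd, htp, hL⟩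

theorem n22 {L K L' K' : Subgroup (Perm (Fin 22))} (h : PC 22 π L K L' K') : False := by
  have hP : Nat.Prime 19 := by norm_num
  refine h.reduce hP (by omega) (by omega) (fun _ _ _ _ h' hd => ?_) (fun _ _ _ _ h' hd => ?_)
  · have h1 := h'.caseL3 hP (by omega) (by omega) hd
    rw [v2f (by norm_num), v2f (by norm_num)] at h1
    omega
  · have h1 := h'.caseK3 hP (by omega) (by omega) hd
    exact h'.kill (a := 13) (b := 17) (by norm_num) (by norm_num) hP (by omega) (by omega) (by omega) (by omega)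
      (by omega) hd h1.2.1

theorem n26 {L K L' K' : Subgroup (Perm (Fin 26))} (h : PC 26 π L K L' K') : False := by
  have hP : Nat.Prime 23 := by norm_num
  refine h.reduce hP (by omega) (by omega) (fun _ _ _ _ h' hd => ?_) (fun _ _ _ _ h' hd => ?_)
  · have h1 := h'.caseL3 hP (by omega) (by omega) hd
    rw [v2f (by norm_num), v2f (by norm_num)] at h1
    omega
  · have h1 := h'.caseK3 hP (by omega) (by omega) hd
    exact h'.kill (a := 17) (b := 19) (by norm_num) (by norm_num) hP (by omega) (by omega) (by omega) (by omega)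
      (by omega) hd h1.2.1

theorem n16 {L K L' K' : Subgroup (Perm (Fin 16))} (h : PC 16 π L K L' K') : False := by
  have hP : Nat.Prime 13 := by norm_num
  have h11 : Nat.Prime 11 := by norm_num
  refine h.reduce hP (by omega) (by omega) (fun _ _ _ _ h' hd => ?_) (fun L K L' K' h' hd => ?_)
  · have h1 := h'.caseL3 hP (by omega) (by omega) hd
    rw [v2f (by norm_num), v2f (by norm_num)] at h1
    omega
  · obtain ⟨h1, h2, h3⟩ := h'.caseK3 hP (by omega) (by omega) hd
    rcases h'.mem_or h11 (by omega) (by omega) with (h4 | h4) | h4 | h4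
    · have := (h11.dvd_factorial).1 (h4.trans h3)
      omega
    · have h5 := fact_le (r := 2) (Nat.factorial_ne_zero _) (h'.symm.big_K h11 h4 (by omega)).1
      have h6 := h'.K3 2
      have h7 := inf_le_card K 2
      have h8 := h'.two2
      rw [v2f (by norm_num)] at h5 h6 h8
      omega
    · exact h'.no_two_K3 h11 hP (by omega) (by omega) (by omega) h4 hd h2
    · have h5 := fact_le (r := 3) (Nat.factorial_ne_zero _) (h'.symm.big_L h11 h4 (by omega))
      have h6 := fact_le (r := 3) (Nat.factorial_ne_zero _) h3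
      have h7 := h'.numL 3 Nat.prime_three h2
      rw [v3f (by norm_num)] at h5 h6 h7
      omega

theorem n10 {L K L' K' : Subgroup (Perm (Fin 10))} (h : PC 10 π L K L' K') : False := by
  have hP : Nat.Prime 7 := by norm_num
  have h5p := Nat.prime_five
  refine h.reduce hP (by omega) (by omega) (fun _ _ _ _ h' hd => ?_) (fun L K L' K' h' hd => ?_)
  · have h1 := h'.caseL3 hP (by omega) (by omega) hd
    rw [v2f (by norm_num), v2f (by norm_num)] at h1
    omega
  · obtain ⟨h1, h2, h3⟩ := h'.caseK3 hP (by omega) (by omega) hd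
    have h4 := fact_le (r := 3) (Nat.factorial_ne_zero _) h3
    have h5 := h'.numL 3 Nat.prime_three h2
    rw [v3f (by norm_num)] at h4 h5
    obtain ⟨k, hk1, hk2, -, hk4, hk5⟩ := h'.cK Nat.prime_three h1
    have h6 : (Nat.card ↥(K ⊓ alternatingGroup (Fin 10))).factorization 2 ≤ 3 := by
      have hk : k = 1 ∨ k = 2 ∨ k = 3 := by clear * - hk1 hk2; omega
      rcases hk with rfl | rfl | rfl
      · have h8 := hk5 (by norm_num)
        rw [v2f (m := 10 - 1 * 3) (by norm_num), v2f (m := 1) (by norm_num)] at h8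
        clear * - h8
        omega
      · have h8 := hk5 (by norm_num)
        rw [v2f (m := 10 - 2 * 3) (by norm_num), v2f (m := 2) (by norm_num)] at h8
        clear * - h8
        omega
      · have h8 := (inf_le_card K 2).trans (hk4 2)
        rw [v2f (m := 10 - 3 * 3) (by norm_num), v2f (m := 3) (by norm_num)] at h8
        clear * - h8
        omega
    have h7 := h'.two2
    rw [v2f (by norm_num)] at h7
    by_cases h5π : 5 ∈ π
    · have h8 := h'.numL 5 h5p h5π
      have h9 := fact_le (r := 5) (Nat.factorial_ne_zero _) h3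
      rw [v5f (by norm_num)] at h8 h9
      have h10 : 5 ∣ Nat.card L' := (fact_pos_iff Nat.prime_five Nat.card_pos.ne').1 (by omega)
      have h11 := h'.symm.K5 h5p le_rfl h10 2
      rw [v2f (by norm_num)] at h11
      omega
    · have h8 := h'.numK 5 h5p (by norm_num) h5π
      have h9 := h'.K3 5
      rw [v5f (by norm_num)] at h8 h9
      have h10 : 5 ∣ Nat.card K' := (fact_pos_iff Nat.prime_five Nat.card_pos.ne').1 (by omega)
      obtain ⟨l, hl1, hl2, -, hl4⟩ := h'.symm.cL h5p h10
      have h11 := hl4 3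
      have hl : l = 1 ∨ l = 2 := by clear * - hl1 hl2; omega
      rcases hl with rfl | rfl
      · rw [v3f (m := 10 - 1 * 5) (by norm_num), v3f (m := 1) (by norm_num)] at h11
        clear * - h11 h4 h5
        omega
      · rw [v3f (m := 10 - 2 * 5) (by norm_num), v3f (m := 2) (by norm_num)] at h11
        clear * - h11 h4 h5
        omega

theorem n27 (hn : n = 27 ∨ n = 28) (h : PC n π L K L' K') : False := by
  have hP : Nat.Prime 23 := by norm_num
  have h17 : Nat.Prime 17 := by norm_num
  have h19 : Nat.Prime 19 := by norm_num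
  refine h.reduce hP (by omega) (by omega) (fun L K L' K' h' hd => ?_) (fun L K L' K' h' hd => ?_)
  · have key : ∀ r, r.Prime → 17 ≤ r → r < 23 → r ∣ Nat.card L' ∨ r ∣ Nat.card K' := by
      intro r hr har hrP
      rcases h'.mem_or hr (by omega) (by omega) with (h1 | h1) | h1 | h1
      · exact absurd (h'.no_two_L hr hP hrP (by omega) h1 hd) id
      · exact Or.inl h1
      · exact absurd (h'.nonAdj hP hr (by omega) hd h1) id
      · exact Or.inr h1
    obtain ⟨h1, h2⟩ := h'.both h17 h19 (by omega) (by omega) (key 17 h17 (by omega) (by omega))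
      (key 19 h19 (by omega) (by omega))
    have h3 := h'.symm.no_two_K3 h17 h19 (by omega) (by omega) (by omega) h1 h2
    obtain ⟨t, ht, htd, htp, ht3⟩ := h'.symm.exists_prime
    have ht5 : 5 ≤ t := by
      by_contra h0
      have h4 : t = 3 ∨ t = 4 := by omega
      rcases h4 with rfl | rfl
      · exact h3 htp
      · exact absurd ht (by norm_num)
    have h4 := h'.symm.K5 ht ht5 htd 2
    have h5 := (h'.big_K hP hd (by omega)).2 (by omega)
    have h6 := h'.two2
    rw [v2f (by omega)] at h4 h5 h6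
    rcases hn with rfl | rfl <;> omega
  · have hL := h'.big_L hP hd (by omega)
    have key : ∀ r, r.Prime → 17 ≤ r → r ≤ 20 → r ∣ Nat.card L' ∨ r ∣ Nat.card K' := by
      intro r hr har hrP
      rcases h'.mem_or hr (by omega) (by omega) with (h1 | h1) | h1 | h1
      · have := (hr.dvd_factorial).1 (h1.trans hL)
        omega
      · exact Or.inl h1
      · exact absurd (h'.no_two_K hr hP (by omega) (by omega) h1 hd) id
      · exact Or.inr h1
    obtain ⟨h1, h2⟩ := h'.both h17 h19 (by omega) (by omega) (key 17 h17 (by omega) (by omega))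
      (key 19 h19 (by omega) (by omega))
    have h3 := h'.symm.big_L h19 h2 (by omega)
    obtain ⟨t, ht, htd, htp, ht3⟩ := h'.exists_prime
    have ht5 : t ≤ 5 := by
      have := (ht.dvd_factorial).1 (htd.trans hL)
      omega
    have h4 := h'.numL t ht htp
    have h5 := fact_le (r := t) (Nat.factorial_ne_zero _) hL
    have h6 := fact_le (r := t) (Nat.factorial_ne_zero _) h3
    have h7 : t = 3 ∨ t = 4 ∨ t = 5 := by omega
    rcases h7 with rfl | rfl | rfl
    · rw [v3f (by omega)] at h4 h5 h6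
      rcases hn with rfl | rfl <;> omega
    · exact absurd ht (by norm_num)
    · rw [v5f (by omega)] at h4 h5 h6
      rcases hn with rfl | rfl <;> omega

/-- **no configurations in `S_n`, `n ≥ 5`, `n ≠ 6`** -/
theorem false (h : PC n π L K L' K') (hn : 5 ≤ n) (hn6 : n ≠ 6) : False := by
  by_cases h29 : 29 ≤ n
  · exact h.large (Or.inl h29)
  have h28 : n ≤ 28 := by omega
  have p5 : Nat.Prime 5 := by norm_num
  have p7 : Nat.Prime 7 := by norm_num
  have p11 : Nat.Prime 11 := by norm_num
  have p13 : Nat.Prime 13 := by norm_num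
  have p17 : Nat.Prime 17 := by norm_num
  have p19 : Nat.Prime 19 := by norm_num
  interval_cases n
  · exact h.g1 p5 (by norm_num) (by norm_num) (by norm_num) (by norm_num) (by norm_num) (by norm_num)
  · exact hn6 rfl
  · exact h.g1 p7 (by norm_num) (by norm_num) (by norm_num) (by norm_num) (by norm_num) (by norm_num)
  · exact h.g1 p7 (by norm_num) (by norm_num) (by norm_num) (by norm_num) (by norm_num) (by norm_num)
  · exact h.n9
  · exact h.n10
  · exact h.g1 p11 (by norm_num) (by norm_num) (by norm_num) (by norm_num) (by norm_num) (by norm_num)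
  · exact h.g1 p11 (by norm_num) (by norm_num) (by norm_num) (by norm_num) (by norm_num) (by norm_num)
  · exact h.g1 p13 (by norm_num) (by norm_num) (by norm_num) (by norm_num) (by norm_num) (by norm_num)
  · exact h.g1 p13 (by norm_num) (by norm_num) (by norm_num) (by norm_num) (by norm_num) (by norm_num)
  · exact h.n15
  · exact h.n16
  · exact h.g1 p17 (by norm_num) (by norm_num) (by norm_num) (by norm_num) (by norm_num) (by norm_num)
  · exact h.g1 p17 (by norm_num) (by norm_num) (by norm_num) (by norm_num) (by norm_num) (by norm_num)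
  · exact h.g1 p19 (by norm_num) (by norm_num) (by norm_num) (by norm_num) (by norm_num) (by norm_num)
  · exact h.g1 p19 (by norm_num) (by norm_num) (by norm_num) (by norm_num) (by norm_num) (by norm_num)
  · exact h.n21
  · exact h.n22
  · exact h.large (Or.inr (by norm_num))
  · exact h.large (Or.inr (by norm_num))
  · exact h.large (Or.inr (by norm_num))
  · exact h.n26
  · exact n27 (Or.inl rfl) h
  · exact n27 (Or.inr rfl) h

end PC

end Cfsg.Agent.H528.PDAlt
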